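import Mathlib.CategoryTheory.Abelian.GrothendieckAxioms.Basic
import Mathlib.Algebra.Homology.ShortComplex.Abelian
import Mathlib.Algebra.Homology.ShortComplex.ExactFunctor
import Mathlib.Algebra.Homology.ShortComplex.HomologicalComplex

/-! Kernels, cokernels and homology commute with colimits of an exact shape. -/

set_option autoImplicit false

universe v u v₁ u₁ v₂ u₂ w w'

open CategoryTheory CategoryTheory.Limits

namespace Groth.Agent.H26Tor

variable {C : Type u₁} [Category.{v₁} C] {A : Type u₂} [Category.{v₂} A] [Abelian A]
  {J : Type w} [Category.{w'} J] [HasColimitsOfShape J C] [HasColimitsOfShape J A]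

section

variable {K G H : C ⥤ A} (ι : K ⟶ G) (φ : G ⟶ H) (w : ∀ X, ι.app X ≫ φ.app X = 0)

/-- A left exact sequence of functors: the first preserves the colimits the other two preserve. -/
theorem preservesColimitsOfShape_kernel [HasExactColimitsOfShape J A]
    (hm : ∀ X, Mono (ι.app X)) (he : ∀ X, (ShortComplex.mk _ _ (w X)).Exact)
    [PreservesColimitsOfShape J G] [PreservesColimitsOfShape J H] : PreservesColimitsOfShape J K := by
  refine ⟨fun {D} => ?_⟩
  let S : ShortComplex (J ⥤ A) := ShortComplex.mk (Functor.whiskerLeft D ι) (Functor.whiskerLeft D φ)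
    (by ext j; exact w (D.obj j))
  have hS : S.Exact := by
    rw [ShortComplex.exact_iff_isZero_homology]
    refine Functor.isZero _ fun j => ?_
    exact ((S.map ((evaluation J A).obj j)).exact_iff_isZero_homology.1 (he (D.obj j))).of_iso
      (S.mapHomologyIso ((evaluation J A).obj j)).symm
  haveI : ∀ j, Mono (S.f.app j) := fun j => hm (D.obj j)
  haveI : Mono S.f := NatTrans.mono_of_mono_app _
  haveI : Mono (colim.map S.f) := Functor.map_mono _ _
  haveI : (colim : (J ⥤ A) ⥤ A).Additive := Functor.additive_of_preserves_binary_products _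
  have hc : (S.map (colim : (J ⥤ A) ⥤ A)).Exact := hS.map _
  haveI : Mono (S.map (colim : (J ⥤ A) ⥤ A)).f := ‹Mono (colim.map S.f)›
  have hK := hc.fIsKernel
  haveI : IsIso (colimit.post D G) := inferInstanceAs (IsIso (preservesColimitIso G D).inv)
  haveI : IsIso (colimit.post D H) := inferInstanceAs (IsIso (preservesColimitIso H D).inv)
  haveI := hm (colimit D)
  have hk := (he (colimit D)).fIsKernel
  have e1 : colim.map S.f ≫ colimit.post D G = colimit.post D K ≫ ι.app (colimit D) := by
    refine colimit.hom_ext fun j => ?_
    simp [S]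
  have e2 : colim.map S.g ≫ colimit.post D H = colimit.post D G ≫ φ.app (colimit D) := by
    refine colimit.hom_ext fun j => ?_
    simp [S]
  have hw : (ι.app (colimit D) ≫ (preservesColimitIso G D).hom) ≫ colim.map S.g = 0 := by
    rw [← cancel_mono (colimit.post D H), Category.assoc, Category.assoc, e2, zero_comp]
    show ι.app (colimit D) ≫ (preservesColimitIso G D).hom ≫ (preservesColimitIso G D).inv ≫ _ = 0
    rw [Iso.hom_inv_id_assoc, w]
  have hfac : hK.lift (KernelFork.ofι _ hw) ≫ colim.map S.f = ι.app (colimit D) ≫ (preservesColimitIso G D).hom :=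
    hK.fac (KernelFork.ofι _ hw) WalkingParallelPair.zero
  haveI : IsIso (colimit.post D K) := by
    refine ⟨hK.lift (KernelFork.ofι _ hw), ?_, ?_⟩
    · refine (cancel_mono (colim.map S.f)).1 ?_
      erw [Category.assoc, hfac, ← Category.assoc, ← e1, Category.assoc]
      show colim.map S.f ≫ (preservesColimitIso G D).inv ≫ (preservesColimitIso G D).hom = _
      rw [Iso.inv_hom_id, Category.comp_id]
      exact (Category.id_comp _).symm
    · refine (cancel_mono (ι.app (colimit D))).1 ?_
      erw [Category.assoc, ← e1, ← Category.assoc, hfac, Category.assoc]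
      show ι.app (colimit D) ≫ (preservesColimitIso G D).hom ≫ (preservesColimitIso G D).inv = _
      rw [Iso.hom_inv_id, Category.comp_id]
      exact (Category.id_comp _).symm
  exact preservesColimit_of_isIso_post _ _

/-- A right exact sequence of functors: the last preserves the colimits the other two preserve. -/
theorem preservesColimitsOfShape_cokernel [HasExactColimitsOfShape J A]
    (hp : ∀ X, Epi (φ.app X)) (he : ∀ X, (ShortComplex.mk _ _ (w X)).Exact)
    [PreservesColimitsOfShape J K] [PreservesColimitsOfShape J G] : PreservesColimitsOfShape J H := by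
  refine ⟨fun {D} => ?_⟩
  let S : ShortComplex (J ⥤ A) := ShortComplex.mk (Functor.whiskerLeft D ι) (Functor.whiskerLeft D φ)
    (by ext j; exact w (D.obj j))
  have hS : S.Exact := by
    rw [ShortComplex.exact_iff_isZero_homology]
    refine Functor.isZero _ fun j => ?_
    exact ((S.map ((evaluation J A).obj j)).exact_iff_isZero_homology.1 (he (D.obj j))).of_iso
      (S.mapHomologyIso ((evaluation J A).obj j)).symm
  haveI : ∀ j, Epi (S.g.app j) := fun j => hp (D.obj j)
  haveI : Epi S.g := NatTrans.epi_of_epi_app _
  haveI : Epi (colim.map S.g) := Functor.map_epi _ _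
  haveI : (colim : (J ⥤ A) ⥤ A).Additive := Functor.additive_of_preserves_binary_products _
  have hc : (S.map (colim : (J ⥤ A) ⥤ A)).Exact := hS.map _
  haveI := hp (colimit D)
  have hk := (he (colimit D)).gIsCokernel
  haveI : Epi (S.map (colim : (J ⥤ A) ⥤ A)).g := ‹Epi (colim.map S.g)›
  have hC := hc.gIsCokernel
  haveI : IsIso (colimit.post D K) := inferInstanceAs (IsIso (preservesColimitIso K D).inv)
  haveI : IsIso (colimit.post D G) := inferInstanceAs (IsIso (preservesColimitIso G D).inv)
  have e1 : colim.map S.f ≫ colimit.post D G = colimit.post D K ≫ ι.app (colimit D) := by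
    refine colimit.hom_ext fun j => ?_
    simp [S]
  have e2 : colim.map S.g ≫ colimit.post D H = colimit.post D G ≫ φ.app (colimit D) := by
    refine colimit.hom_ext fun j => ?_
    simp [S]
  have hw : ι.app (colimit D) ≫ (preservesColimitIso G D).hom ≫ colim.map S.g = 0 := by
    rw [← cancel_epi (colimit.post D K), ← Category.assoc, ← e1, Category.assoc, comp_zero]
    show colim.map S.f ≫ (preservesColimitIso G D).inv ≫ (preservesColimitIso G D).hom ≫ colim.map S.g = 0
    rw [Iso.inv_hom_id_assoc, ← Functor.map_comp, S.zero, Functor.map_zero]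
  have hfac : φ.app (colimit D) ≫ hk.desc (CokernelCofork.ofπ _ hw) = (preservesColimitIso G D).hom ≫ colim.map S.g :=
    hk.fac (CokernelCofork.ofπ _ hw) WalkingParallelPair.one
  haveI : IsIso (colimit.post D H) := by
    refine ⟨hk.desc (CokernelCofork.ofπ _ hw), ?_, ?_⟩
    · refine (cancel_epi (colim.map S.g)).1 ?_
      erw [← Category.assoc, e2, Category.assoc, hfac]
      show (preservesColimitIso G D).inv ≫ (preservesColimitIso G D).hom ≫ _ = _
      rw [Iso.inv_hom_id_assoc]
      exact (Category.comp_id _).symm
    · refine (cancel_epi (φ.app (colimit D))).1 ?_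
      erw [← Category.assoc, hfac, Category.assoc, e2]
      show (preservesColimitIso G D).hom ≫ (preservesColimitIso G D).inv ≫ _ = _
      rw [Iso.hom_inv_id_assoc]
      exact (Category.comp_id _).symm
  exact preservesColimit_of_isIso_post _ _

end

/-- Homology of a complex of functors that preserve colimits of an exact shape preserves them. -/
theorem preservesColimitsOfShape_homology [HasExactColimitsOfShape J A] {ι : Type*} {c : ComplexShape ι}
    (F : C ⥤ HomologicalComplex A c) [∀ i, PreservesColimitsOfShape J (F ⋙ HomologicalComplex.eval A c i)] (n : ι) :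
    PreservesColimitsOfShape J (F ⋙ HomologicalComplex.homologyFunctor A c n) := by
  haveI hop : PreservesColimitsOfShape J (F ⋙ HomologicalComplex.opcyclesFunctor A c n) := by
    refine preservesColimitsOfShape_cokernel
      (K := F ⋙ HomologicalComplex.eval A c (c.prev n)) (G := F ⋙ HomologicalComplex.eval A c n)
      (H := F ⋙ HomologicalComplex.opcyclesFunctor A c n)
      { app := fun X => (F.obj X).d (c.prev n) n, naturality := fun X Y f => (F.map f).comm _ _ }
      { app := fun X => (F.obj X).pOpcycles n, naturality := fun X Y f => (HomologicalComplex.p_opcyclesMap (F.map f) n).symm }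
      (fun X => (F.obj X).d_pOpcycles _ _) (fun X => (inferInstance : Epi ((F.obj X).pOpcycles n))) (fun X => ?_)
    exact ShortComplex.exact_of_g_is_cokernel _ ((F.obj X).opcyclesIsCokernel (c.prev n) n rfl)
  refine preservesColimitsOfShape_kernel (K := F ⋙ HomologicalComplex.homologyFunctor A c n)
      (G := F ⋙ HomologicalComplex.opcyclesFunctor A c n) (H := F ⋙ HomologicalComplex.eval A c (c.next n))
      { app := fun X => (F.obj X).homologyι n, naturality := fun X Y f => HomologicalComplex.homologyι_naturality (F.map f) n }
      { app := fun X => (F.obj X).fromOpcycles n (c.next n), naturality := fun X Y f => (cancel_epi ((F.obj X).pOpcycles n)).1 (by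
        show (F.obj X).pOpcycles n ≫ HomologicalComplex.opcyclesMap (F.map f) n ≫ (F.obj Y).fromOpcycles n (c.next n) =
          (F.obj X).pOpcycles n ≫ (F.obj X).fromOpcycles n (c.next n) ≫ (F.map f).f (c.next n)
        simp) }
      (fun X => (F.obj X).homologyι_comp_fromOpcycles _ _) (fun X => (inferInstance : Mono ((F.obj X).homologyι n)))
      (fun X => ?_)
  exact ShortComplex.exact_of_f_is_kernel _ ((F.obj X).homologyIsKernel n (c.next n) rfl)

end Groth.Agent.H26Tor
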