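import Groth.Agent.H26Tor.Balance
import Mathlib.Algebra.Category.ModuleCat.ChangeOfRings
import Mathlib.Algebra.Homology.ShortComplex.PreservesHomology
import Mathlib.LinearAlgebra.TensorProduct.Tower
import Mathlib.CategoryTheory.Adjunction.Additive

/-! Change of rings for `Tor`. -/

set_option autoImplicit false

universe u

open CategoryTheory CategoryTheory.Limits MonoidalCategory

namespace Groth.Agent.H26Tor

variable {A A' : Type u} [CommRing A] [CommRing A']

/-- An isomorphism of a complex with a restricted complex gives a semilinear bijection in homology. -/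
theorem exists_semilinear_homology (f : A →+* A') (C : ChainComplex (ModuleCat.{u} A) ℕ)
    (C' : ChainComplex (ModuleCat.{u} A') ℕ)
    (e : ∀ i, C.X i ≅ (ModuleCat.restrictScalars f).obj (C'.X i))
    (he : ∀ i, (e (i + 1)).hom ≫ (ModuleCat.restrictScalars f).map (C'.d (i + 1) i) = C.d (i + 1) i ≫ (e i).hom)
    {T : ModuleCat.{u} A} {T' : ModuleCat.{u} A'} (n : ℕ) (u₁ : T ≅ C.homology n) (u₂ : T' ≅ C'.homology n) :
    ∃ φ : T →ₛₗ[f] T', Function.Bijective φ := by
  let G := ModuleCat.restrictScalars.{u} f
  let E : C ≅ (G.mapHomologicalComplex (ComplexShape.down ℕ)).obj C' :=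
    HomologicalComplex.Hom.isoOfComponents e (fun i j h => by
      obtain rfl : j + 1 = i := h
      exact he j)
  let h : C.homology n ≅ G.obj (C'.homology n) :=
    (HomologicalComplex.homologyFunctor _ _ n).mapIso E ≪≫ (C'.sc n).mapHomologyIso G
  let φ : T ≅ G.obj T' := u₁ ≪≫ h ≪≫ G.mapIso u₂.symm
  exact ⟨{ toFun := φ.hom, map_add' := fun x y => map_add φ.hom.hom x y, map_smul' := fun a x => map_smul φ.hom.hom a x },
    ConcreteCategory.bijective_of_isIso φ.hom⟩

/-- The image of a resolution under a right exact functor, when it stays exact. -/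
noncomputable def mapResolution {C D : Type*} [Category C] [Abelian C] [Category D] [Abelian D] (G : C ⥤ D) [G.Additive]
    [PreservesFiniteColimits G] {Z : C} (P : ProjectiveResolution Z) (hP : ∀ n, Projective (G.obj (P.complex.X n)))
    (hex : ∀ n, ((G.mapHomologicalComplex (ComplexShape.down ℕ)).obj P.complex).ExactAt (n + 1)) :
    ProjectiveResolution (G.obj Z) where
  complex := (G.mapHomologicalComplex (ComplexShape.down ℕ)).obj P.complex
  projective := hP
  π := (ChainComplex.toSingle₀Equiv _ _).symm ⟨G.map (P.π.f 0), by
    show G.map (P.complex.d 1 0) ≫ G.map (P.π.f 0) = 0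
    rw [← G.map_comp]
    erw [P.complex_d_comp_π_f_zero]
    exact G.map_zero _ _⟩
  quasiIso := ⟨fun n => by
    cases n with
    | zero =>
      rw [ChainComplex.quasiIsoAt₀_iff, ShortComplex.quasiIso_iff_of_zeros']
      · haveI : Epi (P.π.f 0) := inferInstance
        have h := P.exact₀.map_of_epi_of_preservesCokernel G ‹Epi (P.π.f 0)› inferInstance
        refine (ShortComplex.exact_and_epi_g_iff_of_iso ?_).2 ⟨h, G.map_epi (P.π.f 0)⟩
        exact ShortComplex.isoMk (Iso.refl _) (Iso.refl _) (Iso.refl _) ((Category.id_comp _).trans (Category.comp_id _).symm)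
          (by
            refine (Category.id_comp _).trans ?_
            refine Eq.trans ?_ (Category.comp_id _).symm
            exact (ChainComplex.toSingle₀Equiv_symm_apply_f_zero (C := (G.mapHomologicalComplex (ComplexShape.down ℕ)).obj P.complex) _ _).symm)
      all_goals first | rfl | exact HomologicalComplex.shape ((G.mapHomologicalComplex (ComplexShape.down ℕ)).obj P.complex) 0 0 (show ¬ (0 + 1 = 0) from Nat.succ_ne_zero 0)
    | succ n =>
      rw [quasiIsoAt_iff_exactAt']
      · exact hex n
      · apply ChainComplex.exactAt_succ_single_obj⟩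

variable [Algebra A A']

theorem projective_extendScalars (M : ModuleCat.{u} A) [Projective M] :
    Projective ((ModuleCat.extendScalars (algebraMap A A')).obj M) :=
  (ModuleCat.extendRestrictScalarsAdj (algebraMap A A')).map_projective M inferInstance

/-- `A'` as an `A`-module in the two ways. -/
noncomputable def selfHom :
    ModuleCat.of A A' ⟶ (ModuleCat.restrictScalars (algebraMap A A')).obj (ModuleCat.of A' A') :=
  ModuleCat.semilinearMapAddEquiv (algebraMap A A') (ModuleCat.of A A') (ModuleCat.of A' A')
    { toFun := fun x => x, map_add' := fun _ _ => rfl, map_smul' := fun a x => Algebra.smul_def a x }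

instance : IsIso (selfHom (A := A) (A' := A')) :=
  (ConcreteCategory.isIso_iff_bijective _).2 Function.bijective_id

/-- The identification underlying `extendScalars`. -/
noncomputable def objHom (M : ModuleCat.{u} A) :
    (ModuleCat.restrictScalars (algebraMap A A')).obj (ModuleCat.of A' A') ⊗ M ⟶
      (ModuleCat.restrictScalars (algebraMap A A')).obj ((ModuleCat.extendScalars (algebraMap A A')).obj M) :=
  ModuleCat.semilinearMapAddEquiv (algebraMap A A') _ ((ModuleCat.extendScalars (algebraMap A A')).obj M)
    { toFun := fun x => x, map_add' := fun _ _ => rfl,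
      map_smul' := fun a x => by
        let g : (ModuleCat.extendScalars (algebraMap A A')).obj M →+ (ModuleCat.extendScalars (algebraMap A A')).obj M :=
          DistribSMul.toAddMonoidHom _ (algebraMap A A' a)
        show a • x = g x
        induction x using TensorProduct.induction_on with
        | zero => exact (smul_zero a).trans (map_zero g).symm
        | tmul c y => rfl
        | add c d hc hd => exact (smul_add a c d).trans ((congrArg₂ (· + ·) hc hd).trans (map_add g c d).symm) }

instance (M : ModuleCat.{u} A) : IsIso (objHom (A' := A') M) :=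
  (ConcreteCategory.isIso_iff_bijective _).2 Function.bijective_id

/-- Tensoring with `A'` is the restriction of extending scalars. -/
noncomputable def tensorExtendIso (M : ModuleCat.{u} A) :
    ModuleCat.of A A' ⊗ M ≅ (ModuleCat.restrictScalars (algebraMap A A')).obj ((ModuleCat.extendScalars (algebraMap A A')).obj M) :=
  whiskerRightIso (asIso selfHom) M ≪≫ asIso (objHom M)

/-- `(A' ⊗_A L) ` as a complex of `A`-modules. -/
theorem exactAt_extendScalars (L : ChainComplex (ModuleCat.{u} A) ℕ) (n : ℕ)
    (h : ((((tensoringLeft (ModuleCat.{u} A)).obj (ModuleCat.of A A')).mapHomologicalComplex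
      (ComplexShape.down ℕ)).obj L).ExactAt (n + 1)) :
    (((ModuleCat.extendScalars (algebraMap A A')).mapHomologicalComplex (ComplexShape.down ℕ)).obj L).ExactAt (n + 1) := by
  let G := ModuleCat.restrictScalars.{u} (algebraMap A A')
  let E : (((tensoringLeft (ModuleCat.{u} A)).obj (ModuleCat.of A A')).mapHomologicalComplex (ComplexShape.down ℕ)).obj L ≅
      (G.mapHomologicalComplex (ComplexShape.down ℕ)).obj
        (((ModuleCat.extendScalars (algebraMap A A')).mapHomologicalComplex (ComplexShape.down ℕ)).obj L) :=
    HomologicalComplex.Hom.isoOfComponents (fun i => tensorExtendIso (L.X i))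
      (fun i j _ => by
        ext z
        induction z using TensorProduct.induction_on with
        | zero => exact (map_zero _).trans (map_zero _).symm
        | tmul a x => rfl
        | add z w hz hw => exact (map_add _ z w).trans ((congrArg₂ (· + ·) hz hw).trans (map_add _ z w).symm))
  have h' := (h.of_iso E)
  rw [HomologicalComplex.exactAt_iff] at h' ⊢
  exact (ShortComplex.exact_map_iff_of_faithful _ G).1 h'

/-- The comparison map as an additive map. -/
noncomputable def extendAddHom (M : ModuleCat.{u} A) :
    TensorProduct A A' M →+ (ModuleCat.extendScalars (algebraMap A A')).obj M :=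
  (tensorExtendIso M).hom.hom.toAddMonoidHom

/-- `A' ⊗_A M` is the extension of scalars. -/
noncomputable def extendEquiv (M : ModuleCat.{u} A) :
    TensorProduct A A' M ≃ₗ[A'] (ModuleCat.extendScalars (algebraMap A A')).obj M :=
  LinearEquiv.ofBijective
    { toFun := extendAddHom M
      map_add' := map_add _
      map_smul' := fun b z => by
        let g : (ModuleCat.extendScalars (algebraMap A A')).obj M →+ (ModuleCat.extendScalars (algebraMap A A')).obj M :=
          DistribSMul.toAddMonoidHom _ b
        show extendAddHom M (b • z) = g (extendAddHom M z)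
        induction z using TensorProduct.induction_on with
        | zero => simp only [smul_zero, map_zero]
        | tmul c y => rfl
        | add c d hc hd => rw [smul_add, map_add, map_add, map_add, hc, hd] }
    (ConcreteCategory.bijective_of_isIso (tensorExtendIso M).hom)

variable (P' : Type u) [AddCommGroup P'] [Module A' P'] [Module A P'] [IsScalarTower A A' P']

/-- `P' ⊗_A M = P' ⊗_{A'} (A' ⊗_A M)`. -/
noncomputable def cancelHom (M : ModuleCat.{u} A) :
    ModuleCat.of A P' ⊗ M ⟶ (ModuleCat.restrictScalars (algebraMap A A')).obj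
      (ModuleCat.of A' P' ⊗ (ModuleCat.extendScalars (algebraMap A A')).obj M) :=
  ModuleCat.semilinearMapAddEquiv (algebraMap A A') (ModuleCat.of A P' ⊗ M)
      (ModuleCat.of A' P' ⊗ (ModuleCat.extendScalars (algebraMap A A')).obj M)
    { toFun := fun z => (TensorProduct.congr (LinearEquiv.refl A' P') (extendEquiv M))
        ((TensorProduct.AlgebraTensorModule.cancelBaseChange A A' A' P' M).symm z)
      map_add' := fun x y => (congrArg _ (map_add _ x y)).trans (map_add _ _ _)
      map_smul' := fun a z => by
        have h1 : (TensorProduct.AlgebraTensorModule.cancelBaseChange A A' A' P' M).symm (a • z) =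
            algebraMap A A' a • (TensorProduct.AlgebraTensorModule.cancelBaseChange A A' A' P' M).symm z := by
          rw [← map_smul, algebraMap_smul]
        exact (congrArg _ h1).trans (map_smul _ _ _) }

theorem cancelHom_tmul (M : ModuleCat.{u} A) (x : P') (y : M) :
    (TensorProduct.congr (LinearEquiv.refl A' P') (extendEquiv (A' := A') M))
        ((TensorProduct.AlgebraTensorModule.cancelBaseChange A A' A' P' M).symm (x ⊗ₜ y)) =
      x ⊗ₜ[A'] extendEquiv M (1 ⊗ₜ y) := by
  simp

instance cancelHom_isIso (M : ModuleCat.{u} A) : IsIso (cancelHom P' M (A' := A')) :=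
  (ConcreteCategory.isIso_iff_bijective _).2
    ((TensorProduct.congr (LinearEquiv.refl A' P') (extendEquiv M)).bijective.comp
      (TensorProduct.AlgebraTensorModule.cancelBaseChange A A' A' P' M).symm.bijective)

theorem cancelHom_naturality {M N : ModuleCat.{u} A} (g : M ⟶ N) :
    cancelHom P' M ≫ (ModuleCat.restrictScalars (algebraMap A A')).map
        (ModuleCat.of A' P' ◁ (ModuleCat.extendScalars (algebraMap A A')).map g) =
      ModuleCat.of A P' ◁ g ≫ cancelHom (A' := A') P' N := by
  refine ModuleCat.hom_ext (TensorProduct.ext' fun x y => ?_)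
  show (ModuleCat.of A' P' ◁ (ModuleCat.extendScalars (algebraMap A A')).map g)
      ((TensorProduct.congr (LinearEquiv.refl A' P') (extendEquiv M))
        ((TensorProduct.AlgebraTensorModule.cancelBaseChange A A' A' P' M).symm (x ⊗ₜ y))) =
    (TensorProduct.congr (LinearEquiv.refl A' P') (extendEquiv N))
        ((TensorProduct.AlgebraTensorModule.cancelBaseChange A A' A' P' N).symm (x ⊗ₜ g y))
  rw [cancelHom_tmul, cancelHom_tmul]
  show x ⊗ₜ[A'] ((ModuleCat.extendScalars (algebraMap A A')).map g) (extendEquiv M (1 ⊗ₜ y)) = x ⊗ₜ[A'] extendEquiv N (1 ⊗ₜ g y)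
  rfl

/-- `Tor` and extension of scalars in the second variable. -/
theorem exists_semilinear_tor_right {Q : ModuleCat.{u} A} (F : ProjectiveResolution Q)
    (hex : ∀ n, ((((tensoringLeft (ModuleCat.{u} A)).obj (ModuleCat.of A A')).mapHomologicalComplex
      (ComplexShape.down ℕ)).obj F.complex).ExactAt (n + 1)) (n : ℕ) :
    ∃ φ : ((Tor (ModuleCat.{u} A) n).obj (ModuleCat.of A P')).obj Q →ₛₗ[algebraMap A A']
        ((Tor (ModuleCat.{u} A') n).obj (ModuleCat.of A' P')).obj ((ModuleCat.extendScalars (algebraMap A A')).obj Q),
      Function.Bijective φ := by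
  haveI : PreservesColimitsOfSize.{0, 0} (ModuleCat.extendScalars.{u} (algebraMap A A')) :=
    (ModuleCat.extendRestrictScalarsAdj.{u} (algebraMap A A')).leftAdjoint_preservesColimits
  haveI : PreservesFiniteColimits (ModuleCat.extendScalars.{u} (algebraMap A A')) :=
    PreservesColimitsOfSize.preservesFiniteColimits _
  haveI : (ModuleCat.extendScalars.{u} (algebraMap A A')).Additive :=
    (ModuleCat.extendRestrictScalarsAdj.{u} (algebraMap A A')).left_adjoint_additive
  let F' := mapResolution (ModuleCat.extendScalars (algebraMap A A')) F (fun m => projective_extendScalars _)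
    (fun m => exactAt_extendScalars F.complex m (hex m))
  exact exists_semilinear_homology _ _ _ (fun i => @asIso _ _ _ _ (cancelHom (A' := A') P' (F.complex.X i)) (cancelHom_isIso P' _))
    (fun i => cancelHom_naturality P' (F.complex.d (i + 1) i)) n
    (F.isoLeftDerivedObj ((tensoringLeft (ModuleCat.{u} A)).obj (ModuleCat.of A P')) n)
    (F'.isoLeftDerivedObj ((tensoringLeft (ModuleCat.{u} A')).obj (ModuleCat.of A' P')) n)

/-- `Tor` and extension of scalars in the first variable. -/
theorem exists_semilinear_tor_left {P : ModuleCat.{u} A} (L : ProjectiveResolution P)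
    (hex : ∀ n, ((((tensoringLeft (ModuleCat.{u} A)).obj (ModuleCat.of A A')).mapHomologicalComplex
      (ComplexShape.down ℕ)).obj L.complex).ExactAt (n + 1)) (n : ℕ) :
    ∃ φ : ((Tor (ModuleCat.{u} A) n).obj P).obj (ModuleCat.of A P') →ₛₗ[algebraMap A A']
        ((Tor (ModuleCat.{u} A') n).obj ((ModuleCat.extendScalars (algebraMap A A')).obj P)).obj (ModuleCat.of A' P'),
      Function.Bijective φ := by
  haveI : PreservesColimitsOfSize.{0, 0} (ModuleCat.extendScalars.{u} (algebraMap A A')) :=
    (ModuleCat.extendRestrictScalarsAdj.{u} (algebraMap A A')).leftAdjoint_preservesColimits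
  haveI : PreservesFiniteColimits (ModuleCat.extendScalars.{u} (algebraMap A A')) :=
    PreservesColimitsOfSize.preservesFiniteColimits _
  haveI : (ModuleCat.extendScalars.{u} (algebraMap A A')).Additive :=
    (ModuleCat.extendRestrictScalarsAdj.{u} (algebraMap A A')).left_adjoint_additive
  let L' := mapResolution (ModuleCat.extendScalars (algebraMap A A')) L (fun m => projective_extendScalars _)
    (fun m => exactAt_extendScalars L.complex m (hex m))
  obtain ⟨u₁⟩ := balance L n (ModuleCat.of A P')
  obtain ⟨u₂⟩ := balance L' n (ModuleCat.of A' P')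
  refine exists_semilinear_homology _ _ _
    (fun i => (β_ (L.complex.X i) (ModuleCat.of A P')) ≪≫ @asIso _ _ _ _ (cancelHom (A' := A') P' (L.complex.X i)) (cancelHom_isIso P' _) ≪≫
      (ModuleCat.restrictScalars (algebraMap A A')).mapIso (β_ (ModuleCat.of A' P') _))
    (fun i => ?_) n u₁ u₂
  show ((β_ _ _).hom ≫ cancelHom P' _ ≫ (ModuleCat.restrictScalars _).map (β_ _ _).hom) ≫
      (ModuleCat.restrictScalars _).map ((ModuleCat.extendScalars (algebraMap A A')).map (L.complex.d (i + 1) i) ▷ _) =
    L.complex.d (i + 1) i ▷ ModuleCat.of A P' ≫ (β_ _ _).hom ≫ cancelHom P' _ ≫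
      (ModuleCat.restrictScalars _).map (β_ _ _).hom
  simp only [Category.assoc, ← Functor.map_comp]
  rw [← BraidedCategory.braiding_naturality_right, Functor.map_comp, ← Category.assoc (cancelHom P' _), cancelHom_naturality,
    Category.assoc, ← BraidedCategory.braiding_naturality_left_assoc]

end Groth.Agent.H26Tor
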