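import Groth.Agent.H3CAlg.TorBasic
import Mathlib.Algebra.Homology.HomologySequence
import Mathlib.Algebra.Homology.HomologicalComplexAbelian

/-! Balancing `Tor`. -/

set_option autoImplicit false

universe u

open CategoryTheory CategoryTheory.Limits MonoidalCategory

namespace Groth.Agent.H26Tor

variable {R : Type u} [CommRing R]

theorem isIso_of_isKernel_maps {A₁ B₁ C₁ A₂ B₂ C₂ : ModuleCat.{u} R} {f₁ : A₁ ⟶ B₁} {g₁ : B₁ ⟶ C₁}
    {f₂ : A₂ ⟶ B₂} {g₂ : B₂ ⟶ C₂} (w₁ : f₁ ≫ g₁ = 0) (w₂ : f₂ ≫ g₂ = 0)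
    (h₁ : (ShortComplex.mk f₁ g₁ w₁).Exact) (h₂ : (ShortComplex.mk f₂ g₂ w₂).Exact) (m₁ : Mono f₁) (m₂ : Mono f₂)
    (eB : B₁ ≅ B₂) (eC : C₁ ≅ C₂) (h : g₁ ≫ eC.hom = eB.hom ≫ g₂) : Nonempty (A₁ ≅ A₂) := by
  haveI : Mono (ShortComplex.mk f₁ g₁ w₁).f := m₁
  haveI : Mono (ShortComplex.mk f₂ g₂ w₂).f := m₂
  have k : IsLimit (KernelFork.ofι f₂ w₂) := h₂.fIsKernel
  exact ⟨(IsLimit.conePointsIsoOfNatIso h₁.fIsKernel k (parallelPair.ext eB eC h (by simp)) :)⟩

theorem isIso_desc_of_rightExact {A : Type*} [Category A] [Abelian A] (G : A ⥤ A) [G.Additive]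
    [PreservesFiniteColimits G] (S : ShortComplex A) (hS : S.Exact) (hg : Epi S.g) {Q : A} (p : G.obj S.X₂ ⟶ Q)
    (hw : G.map S.f ≫ p = 0) (hp : IsColimit (CokernelCofork.ofπ p hw)) (d : Q ⟶ G.obj S.X₃)
    (h : p ≫ d = G.map S.g) : IsIso d := by
  haveI := hg
  haveI : Epi (S.map G).g := inferInstanceAs (Epi (G.map S.g))
  have hc := (hS.map_of_epi_of_preservesCokernel G hg inferInstance).gIsCokernel
  let e := IsColimit.coconePointUniqueUpToIso hp hc
  have : d = e.hom := Cofork.IsColimit.hom_ext hp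
    (h.trans (IsColimit.comp_coconePointUniqueUpToIso_hom hp hc WalkingParallelPair.one).symm)
  exact this ▸ inferInstanceAs (IsIso e.hom)

/-- Tensoring a resolution of `M` with a varying module. -/
noncomputable def leftRes {M : ModuleCat.{u} R} (P : ProjectiveResolution M) :
    ModuleCat.{u} R ⥤ ChainComplex (ModuleCat.{u} R) ℕ where
  obj N := ((tensorRight N).mapHomologicalComplex _).obj P.complex
  map {N N'} f := (NatTrans.mapHomologicalComplex ((tensoringRight (ModuleCat.{u} R)).map f) _).app P.complex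
  map_id N := by ext i : 1; exact whiskerLeft_id _ _
  map_comp f g := by ext i : 1; exact whiskerLeft_comp _ _ _

variable {M : ModuleCat.{u} R} (P : ProjectiveResolution M)

theorem leftRes_shortExact {S : ShortComplex (ModuleCat.{u} R)} (hS : S.ShortExact) :
    ∃ w : (leftRes P).map S.f ≫ (leftRes P).map S.g = 0,
      (ShortComplex.mk _ _ w).ShortExact := by
  have w : (leftRes P).map S.f ≫ (leftRes P).map S.g = 0 := by
    ext i : 1
    show P.complex.X i ◁ S.f ≫ P.complex.X i ◁ S.g = 0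
    rw [← whiskerLeft_comp, S.zero, MonoidalPreadditive.whiskerLeft_zero]
  refine ⟨w, HomologicalComplex.shortExact_of_degreewise_shortExact _ fun i => ?_⟩
  haveI : Module.Projective R (P.complex.X i) := (P.complex.X i).projective_of_module_projective
  refine { exact := ?_, mono_f := ?_, epi_g := ?_ }
  · exact Module.Flat.lTensor_shortComplex_exact (P.complex.X i) S hS.exact
  · rw [ModuleCat.mono_iff_injective]
    exact Module.Flat.lTensor_preserves_injective_linearMap _ ((ModuleCat.mono_iff_injective _).mp hS.mono_f)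
  · rw [ModuleCat.epi_iff_surjective]
    exact LinearMap.lTensor_surjective _ ((ModuleCat.epi_iff_surjective _).mp hS.epi_g)

theorem leftRes_homology_succ_isZero (N : ModuleCat.{u} R) [Projective N] (n : ℕ) :
    IsZero (((leftRes P).obj N).homology (n + 1)) := by
  haveI : Module.Projective R N := N.projective_of_module_projective
  rw [← HomologicalComplex.exactAt_iff_isZero_homology]
  exact (Module.Flat.rTensor_shortComplex_exact N _ (P.complex_exactAt_succ n) :)

/-- The augmentation in degree zero. -/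
noncomputable def leftResZero (N : ModuleCat.{u} R) : ((leftRes P).obj N).homology 0 ⟶ M ⊗ N :=
  ((leftRes P).obj N).homologyι 0 ≫ HomologicalComplex.descOpcycles ((leftRes P).obj N) (P.π.f 0 ▷ N) 1 (by simp) (by
    show P.complex.d 1 0 ▷ N ≫ P.π.f 0 ▷ N = 0
    rw [← comp_whiskerRight]
    erw [P.complex_d_comp_π_f_zero]
    exact MonoidalPreadditive.zero_whiskerRight)

theorem leftResZero_naturality {N N' : ModuleCat.{u} R} (f : N ⟶ N') :
    HomologicalComplex.homologyMap ((leftRes P).map f) 0 ≫ leftResZero P N' = leftResZero P N ≫ M ◁ f := by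
  simp only [leftResZero, HomologicalComplex.homologyι_naturality_assoc, Category.assoc]
  congr 1
  refine (cancel_epi (((leftRes P).obj N).pOpcycles 0)).1 ?_
  simp only [HomologicalComplex.p_opcyclesMap_assoc, HomologicalComplex.p_descOpcycles,
    HomologicalComplex.p_descOpcycles_assoc]
  exact whisker_exchange _ _

theorem isIso_leftResZero (N : ModuleCat.{u} R) : IsIso (leftResZero P N) := by
  haveI : IsIso (((leftRes P).obj N).homologyι 0) :=
    HomologicalComplex.isIso_homologyι _ 0 0 (by simp) (HomologicalComplex.shape _ _ _ (by simp))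
  refine @IsIso.comp_isIso _ _ _ _ _ _ _ inferInstance ?_
  haveI : PreservesFiniteColimits (tensorRight N) :=
    ⟨fun K _ _ => preservesColimitsOfShape_of_natIso (BraidedCategory.tensorLeftIsoTensorRight N)⟩
  exact isIso_desc_of_rightExact (tensorRight N) (ShortComplex.mk (P.complex.d 1 0) (P.π.f 0) P.complex_d_comp_π_f_zero)
    P.exact₀ (inferInstanceAs (Epi (P.π.f 0))) (((leftRes P).obj N).pOpcycles 0) _
    (((leftRes P).obj N).opcyclesIsCokernel 1 0 (by simp)) _ (HomologicalComplex.p_descOpcycles _ _ _ _ _)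

theorem balance : ∀ (n : ℕ) (N : ModuleCat.{u} R),
    Nonempty (((Tor (ModuleCat.{u} R) n).obj M).obj N ≅ ((leftRes P).obj N).homology n)
  | 0, N => by
    haveI := isIso_leftResZero P N
    exact ⟨(H3CAlg.Tor.zeroIso M).app N ≪≫ (asIso (leftResZero P N)).symm⟩
  | 1, N => by
    obtain ⟨K, i, w, hS⟩ := H3CAlg.Tor.exists_presentation N
    obtain ⟨-, -, δ, w₁, w₂, h₁, h₂⟩ := H3CAlg.Tor.les₂ M _ hS 0
    haveI : Mono δ := h₁.mono_g ((isZero_Tor_succ_of_projective _ M _ 0).eq_of_src _ _)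
    obtain ⟨wU, hU⟩ := leftRes_shortExact P hS
    haveI : Mono (hU.δ 1 0 rfl) :=
      (hU.homology_exact₃ 1 0 rfl).mono_g ((leftRes_homology_succ_isZero P (Projective.over N) 0).eq_of_src _ _)
    haveI := isIso_leftResZero P K
    haveI := isIso_leftResZero P (Projective.over N)
    refine isIso_of_isKernel_maps w₂ _ h₂ (hU.homology_exact₁ 1 0 rfl) ‹Mono δ› ‹Mono (hU.δ 1 0 rfl)›
      ((H3CAlg.Tor.zeroIso M).app K ≪≫ (asIso (leftResZero P K)).symm)
      ((H3CAlg.Tor.zeroIso M).app (Projective.over N) ≪≫ (asIso (leftResZero P (Projective.over N))).symm) ?_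
    show _ ≫ (_ ≫ inv (leftResZero P (Projective.over N))) =
      (_ ≫ inv (leftResZero P K)) ≫ HomologicalComplex.homologyMap ((leftRes P).map i) 0
    rw [← Category.assoc, IsIso.comp_inv_eq, Category.assoc, Category.assoc, leftResZero_naturality,
      IsIso.inv_hom_id_assoc]
    exact (H3CAlg.Tor.zeroIso M).hom.naturality i
  | n + 2, N => by
    obtain ⟨K, i, w, hS⟩ := H3CAlg.Tor.exists_presentation N
    obtain ⟨-, -, δ, w₁, w₂, h₁, h₂⟩ := H3CAlg.Tor.les₂ M _ hS (n + 1)
    haveI : Mono δ := h₁.mono_g ((isZero_Tor_succ_of_projective _ M _ (n + 1)).eq_of_src _ _)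
    haveI : Epi δ := h₂.epi_f ((isZero_Tor_succ_of_projective _ M _ n).eq_of_tgt _ _)
    haveI := isIso_of_mono_of_epi δ
    obtain ⟨wU, hU⟩ := leftRes_shortExact P hS
    haveI : IsIso (hU.δ (n + 2) (n + 1) rfl) :=
      hU.isIso_δ _ _ rfl (leftRes_homology_succ_isZero P (Projective.over N) (n + 1))
        (leftRes_homology_succ_isZero P (Projective.over N) n)
    obtain ⟨e⟩ := balance (n + 1) K
    exact ⟨(asIso δ ≪≫ e ≪≫ (asIso (hU.δ (n + 2) (n + 1) rfl)).symm :)⟩

end Groth.Agent.H26Tor
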