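import Groth.Agent.H4DR.KFlatMod
import Mathlib.Algebra.Homology.Embedding.CochainComplex
import Mathlib.Algebra.Homology.Embedding.TruncGE
import Mathlib.CategoryTheory.Abelian.Projective.Extend
import Mathlib.Algebra.Homology.Embedding.ExtendHomology

/-! Vanishing of hypertor. -/

set_option autoImplicit false

universe v v' u u' w

open CategoryTheory CategoryTheory.Limits MonoidalCategory
open Groth.Agent.H16Derived

namespace Groth.Agent.H26Tor

section Generic

variable {B : Type u} [Category.{v} B] [Abelian B]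

/-- Dévissage of a property of bounded above complexes along their cohomology. -/
theorem devissage (G : CochainComplex B ℤ → Prop)
    (hq : ∀ {X Y : CochainComplex B ℤ} (f : X ⟶ Y) [QuasiIso f], G X ↔ G Y)
    (hs : ∀ S : ShortComplex (CochainComplex B ℤ), S.ShortExact → G S.X₁ → G S.X₃ → G S.X₂)
    (c : ℤ) (hlow : ∀ X : CochainComplex B ℤ, X.IsStrictlyLE c → G X) :
    ∀ (k : ℕ) (M : CochainComplex B ℤ), M.IsStrictlyLE (c + k) →
      (∀ j, c < j → G ((HomologicalComplex.single B (ComplexShape.up ℤ) j).obj (M.homology j))) → G M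
  | 0, M, hM, _ => hlow M (by simpa using hM)
  | k + 1, M, hM, h => by
    set b : ℤ := c + (k + 1 : ℕ) with hb
    haveI := hM
    obtain ⟨H, ⟨e⟩⟩ := CochainComplex.exists_iso_single (M.truncGE b) b
    let φ : M ⟶ (HomologicalComplex.single B (ComplexShape.up ℤ) b).obj H := M.πTruncGE b ≫ e.hom
    haveI : Epi (M.πTruncGE b) := inferInstanceAs (Epi (HomologicalComplex.πTruncGE M _))
    haveI : Epi φ := epi_comp _ _
    haveI : QuasiIsoAt φ b := inferInstanceAs (QuasiIsoAt (M.πTruncGE b ≫ e.hom) b)
    have hS : (ShortComplex.mk (kernel.ι φ) φ (kernel.condition φ)).ShortExact :=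
      { exact := ShortComplex.exact_of_f_is_kernel _ (kernelIsKernel φ) }
    have hz : ∀ j, j ≠ b → IsZero (((HomologicalComplex.single B (ComplexShape.up ℤ) b).obj H).homology j) :=
      fun j hj => HomologicalComplex.isZero_single_obj_homology _ b H j hj
    have hiso : ∀ j, j < b → IsIso (HomologicalComplex.homologyMap (kernel.ι φ) j) := by
      intro j hj
      haveI : Epi (HomologicalComplex.homologyMap (kernel.ι φ) j) :=
        (hS.homology_exact₂ j).epi_f ((hz j (ne_of_lt hj)).eq_of_tgt _ _)
      haveI : Mono (HomologicalComplex.homologyMap (kernel.ι φ) j) :=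
        (hS.homology_exact₁ (j - 1) j (by simp)).mono_g ((hz (j - 1) (by omega)).eq_of_src _ _)
      exact isIso_of_mono_of_epi _
    haveI : (kernel φ).IsLE (b - 1) := (CochainComplex.isLE_iff _ _).2 fun j hj => by
      rw [HomologicalComplex.exactAt_iff_isZero_homology]
      rcases eq_or_lt_of_le (show b ≤ j by omega) with rfl | hj'
      · exact (hS.homology_exact₁ (b - 1) b (by simp)).isZero_X₂ ((hz (b - 1) (by omega)).eq_of_src _ _)
          (by
            haveI : IsIso (HomologicalComplex.homologyMap φ b) :=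
              (quasiIsoAt_iff_isIso_homologyMap φ b).1 inferInstance
            show HomologicalComplex.homologyMap (kernel.ι φ) b = 0
            rw [← cancel_mono (HomologicalComplex.homologyMap φ b), zero_comp, ← HomologicalComplex.homologyMap_comp,
              kernel.condition, HomologicalComplex.homologyMap_zero])
      · refine (hS.homology_exact₁ (j - 1) j (by simp)).isZero_X₂ ?_ ((M.isZero_of_isLE b j hj').eq_of_tgt _ _)
        have hδ : ∀ i i' (hii : (ComplexShape.up ℤ).Rel i i'), hS.δ i i' hii = 0 := by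
          intro i i' hii
          by_cases hib : i = b
          · subst i
            haveI : IsIso (HomologicalComplex.homologyMap φ b) :=
              (quasiIsoAt_iff_isIso_homologyMap φ b).1 inferInstance
            rw [← cancel_epi (HomologicalComplex.homologyMap φ b), comp_zero]
            exact hS.comp_δ b i' hii
          · exact (hz i hib).eq_of_src _ _
        exact hδ _ _ _
    refine hs _ hS ((hq ((kernel φ).ιTruncLE (b - 1))).1 ?_) ?_
    · refine devissage G hq hs c hlow k _ ((CochainComplex.isStrictlyLE_iff _ _).2 fun i hi =>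
        ((kernel φ).truncLE (b - 1)).isZero_of_isStrictlyLE (b - 1) i (by omega)) fun j hj => ?_
      by_cases hjb : j < b
      · haveI := hiso j hjb
        exact (hq ((HomologicalComplex.single B (ComplexShape.up ℤ) j).map
          ((asIso (HomologicalComplex.homologyMap ((kernel φ).ιTruncLE (b - 1)) j)) ≪≫
            asIso (HomologicalComplex.homologyMap (kernel.ι φ) j)).hom)).2 (h j hj)
      · have hzero : IsZero (((kernel φ).truncLE (b - 1)).homology j) :=
          ((kernel φ).truncLE (b - 1)).isZero_of_isLE (b - 1) j (by omega)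
        haveI : CochainComplex.IsStrictlyLE ((HomologicalComplex.single B (ComplexShape.up ℤ) j).obj
            (((kernel φ).truncLE (b - 1)).homology j)) c :=
          (CochainComplex.isStrictlyLE_iff _ _).2 fun i _ => by
            by_cases hij : i = j
            · subst hij
              exact hzero.of_iso (HomologicalComplex.singleObjXSelf (ComplexShape.up ℤ) i _)
            · exact HomologicalComplex.isZero_single_obj_X _ _ _ _ hij
        exact hlow _ ‹_›
    · haveI : IsIso (HomologicalComplex.homologyMap φ b) :=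
        (quasiIsoAt_iff_isIso_homologyMap φ b).1 inferInstance
      exact (hq ((HomologicalComplex.single B (ComplexShape.up ℤ) b).map
        (asIso (HomologicalComplex.homologyMap φ b) ≪≫
          HomologicalComplex.singleObjHomologySelfIso (ComplexShape.up ℤ) b H).hom)).1 (h b (by omega))

/-- `G` applied to an extension by zero, on exactness. -/
theorem exactAt_map_extend {C : Type u'} [Category.{v'} C] [Abelian C] (G : B ⥤ C) [G.Additive]
    (K : ChainComplex B ℕ) (q : ℤ) (h : ∀ p : ℕ, -(p : ℤ) = q → ((G.mapHomologicalComplex _).obj K).ExactAt p) :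
    ((G.mapHomologicalComplex (ComplexShape.up ℤ)).obj (K.extend ComplexShape.embeddingDownNat)).ExactAt q := by
  classical
  let e := ComplexShape.embeddingDownNat
  have hz : ∀ i : ℤ, (¬ ∃ p : ℕ, e.f p = i) →
      IsZero (G.obj ((K.extend e).X i)) := fun i hi =>
    G.map_isZero (HomologicalComplex.isZero_extend_X K e i fun p hp => hi ⟨p, hp⟩)
  have hz' : ∀ i : ℤ, (¬ ∃ p : ℕ, e.f p = i) →
      IsZero (((((G.mapHomologicalComplex _).obj K)).extend e).X i) := fun i hi =>
    HomologicalComplex.isZero_extend_X _ e i fun p hp => hi ⟨p, hp⟩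
  let φ : ∀ i : ℤ, ((((G.mapHomologicalComplex _).obj K)).extend e).X i ≅ G.obj ((K.extend e).X i) := fun i =>
    if hi : ∃ p : ℕ, e.f p = i then
      HomologicalComplex.extendXIso _ e hi.choose_spec ≪≫ (G.mapIso (HomologicalComplex.extendXIso K e hi.choose_spec)).symm
    else (hz' i hi).iso (hz i hi)
  let E : (((G.mapHomologicalComplex _).obj K)).extend e ≅
      (G.mapHomologicalComplex (ComplexShape.up ℤ)).obj (K.extend e) :=
    HomologicalComplex.Hom.isoOfComponents φ (fun i j hij => by
      by_cases hi : ∃ p : ℕ, e.f p = i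
      · by_cases hj : ∃ p : ℕ, e.f p = j
        · show (φ i).hom ≫ G.map ((K.extend e).d i j) = _ ≫ (φ j).hom
          simp only [φ, dif_pos hi, dif_pos hj, HomologicalComplex.extend_d_eq _ e hi.choose_spec hj.choose_spec,
            Iso.trans_hom, Iso.symm_hom, Functor.mapIso_inv, Category.assoc, Functor.map_comp,
            Iso.inv_hom_id_assoc, Functor.mapHomologicalComplex_obj_d]
          erw [← G.map_comp_assoc, Iso.inv_hom_id, G.map_id, Category.id_comp]
          rfl
        · exact (hz j hj).eq_of_tgt _ _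
      · exact (hz' i hi).eq_of_src _ _)
  refine HomologicalComplex.ExactAt.of_iso ?_ E
  by_cases hq : ∃ p : ℕ, e.f p = q
  · obtain ⟨p, hp⟩ := hq
    exact ((HomologicalComplex.extend_exactAt_iff _ e hp).2 (h p hp))
  · exact HomologicalComplex.extend_exactAt _ e q fun p hp => hq ⟨p, hp⟩

end Generic

section Tot

variable {A : Type u} [Category.{v} A] [Abelian A] {B : Type u'} [Category.{v'} B] [Abelian B]
  {C : Type w} [Category.{v} C] [Abelian C] [HasCountableCoproducts C]
  (F : A ⥤ B ⥤ C) [F.Additive] [∀ a, (F.obj a).Additive]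

/-- Total complexes of bounded above complexes vanish in high degrees. -/
theorem isZero_tot_X (L : CochainComplex A ℤ) (M : CochainComplex B ℤ) (a b n : ℤ)
    (hL : ∀ p, a < p → IsZero (L.X p)) (hM : ∀ q, b < q → IsZero (M.X q)) (hn : a + b < n) :
    IsZero (((KFlat.tot F L).obj M).X n) := by
  rw [IsZero.iff_id_eq_zero]
  refine HomologicalComplex.mapBifunctor.hom_ext fun p q h => ?_
  have h' : p + q = n := h
  by_cases hp : a < p
  · exact ((F.map_isZero (hL p hp)).obj _).eq_of_src _ _
  · exact ((F.obj _).map_isZero (hM q (by omega))).eq_of_src _ _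

theorem ι_tot_d (L : CochainComplex A ℤ) (W : CochainComplex B ℤ) (i : ℤ) (hL : L.d i (i + 1) = 0) (q q' n n' : ℤ)
    (hq : q + 1 = q') (h : i + q = n) (h' : i + q' = n') :
    HomologicalComplex.ιMapBifunctor L W F (ComplexShape.up ℤ) i q n h ≫ ((KFlat.tot F L).obj W).d n n' =
      i.negOnePow • ((F.obj (L.X i)).map (W.d q q') ≫
        HomologicalComplex.ιMapBifunctor L W F (ComplexShape.up ℤ) i q' n' h') := by
  obtain rfl : n + 1 = n' := by omega
  subst hq
  change _ ≫ (HomologicalComplex.mapBifunctor L W F (ComplexShape.up ℤ)).d n (n + 1) = _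
  rw [HomologicalComplex.mapBifunctor.d_eq]
  erw [Preadditive.comp_add]
  rw [HomologicalComplex.mapBifunctor.ι_D₁, HomologicalComplex.mapBifunctor.ι_D₂,
    HomologicalComplex.mapBifunctor.d₁_eq' L W F _ (show (ComplexShape.up ℤ).Rel i (i + 1) from rfl)
      q (n + 1),
    HomologicalComplex.mapBifunctor.d₂_eq L W F _ i
      (show (ComplexShape.up ℤ).Rel q (q + 1) from rfl) (n + 1) (show i + (q + 1) = n + 1 by omega),
    hL, F.map_zero, NatTrans.app_zero, zero_comp, smul_zero, zero_add]
  rfl

theorem isIso_ι_tot (L : CochainComplex A ℤ) (W : CochainComplex B ℤ) (i : ℤ) (hL : ∀ p, p ≠ i → IsZero (L.X p))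
    (q n : ℤ) (h : i + q = n) :
    IsIso (HomologicalComplex.ιMapBifunctor L W F (ComplexShape.up ℤ) i q n h) := by
  classical
  let r : ((KFlat.tot F L).obj W).X n ⟶ (F.obj (L.X i)).obj (W.X q) :=
    HomologicalComplex.mapBifunctorDesc fun p' q' h' =>
      if hp : p' = i then
        eqToHom (by
          have h2 : p' + q' = n := h'
          rw [hp, show q' = q by omega])
      else 0
  refine ⟨r, (HomologicalComplex.ι_mapBifunctorDesc _ i q h).trans (by simp), ?_⟩
  refine HomologicalComplex.mapBifunctor.hom_ext fun p' q' h' => ?_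
  by_cases hp : p' = i
  · subst hp
    obtain rfl : q' = q := by
      have h2 : p' + q' = n := h'
      omega
    refine (Category.assoc _ _ _).symm.trans ?_
    refine (congrArg (· ≫ HomologicalComplex.ιMapBifunctor L W F (ComplexShape.up ℤ) p' q' n h)
      (HomologicalComplex.ι_mapBifunctorDesc _ p' q' h')).trans ?_
    simp
  · exact ((F.map_isZero (hL p' hp)).obj _).eq_of_src _ _

/-- `Tot F(L, W)` for `L` in a single degree. -/
theorem exactAt_tot_of_singleDegree (L : CochainComplex A ℤ) (W : CochainComplex B ℤ) (i : ℤ)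
    (hL : ∀ p, p ≠ i → IsZero (L.X p)) (m n : ℤ) (hn : i + m = n)
    (h : (((F.obj (L.X i)).mapHomologicalComplex (ComplexShape.up ℤ)).obj W).ExactAt m) :
    ((KFlat.tot F L).obj W).ExactAt n := by
  rw [HomologicalComplex.exactAt_iff' _ (m - 1) m (m + 1) (by simp) (by simp)] at h
  rw [HomologicalComplex.exactAt_iff' _ (n - 1) n (n + 1) (by simp) (by simp)]
  have hd : L.d i (i + 1) = 0 := (hL _ (by omega)).eq_of_tgt _ _
  have h₁ := isIso_ι_tot F L W i hL (m - 1) (n - 1) (show i + (m - 1) = n - 1 by omega)
  have h₂ := isIso_ι_tot F L W i hL m n hn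
  have h₃ := isIso_ι_tot F L W i hL (m + 1) (n + 1) (show i + (m + 1) = n + 1 by omega)
  let e₂ : (F.obj (L.X i)).obj (W.X m) ≅ (HomologicalComplex.mapBifunctor L W F (ComplexShape.up ℤ)).X n :=
    { hom := i.negOnePow • HomologicalComplex.ιMapBifunctor L W F (ComplexShape.up ℤ) i m n hn
      inv := i.negOnePow • inv (HomologicalComplex.ιMapBifunctor L W F (ComplexShape.up ℤ) i m n hn)
      hom_inv_id := by simp [smul_smul]
      inv_hom_id := by simp [smul_smul] }
  refine ShortComplex.exact_of_iso ?_ h
  refine ShortComplex.isoMk (@asIso _ _ _ _ _ h₁)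
    e₂ (@asIso _ _ _ _ _ h₃) ?_ ?_
  · show HomologicalComplex.ιMapBifunctor L W F (ComplexShape.up ℤ) i (m - 1) (n - 1) _ ≫
        ((KFlat.tot F L).obj W).d (n - 1) n = (F.obj (L.X i)).map (W.d (m - 1) m) ≫
          (i.negOnePow • HomologicalComplex.ιMapBifunctor L W F (ComplexShape.up ℤ) i m n hn)
    rw [ι_tot_d F L W i hd (m - 1) m (n - 1) n (by omega) (by omega) hn, Linear.comp_units_smul]
  · show (i.negOnePow • HomologicalComplex.ιMapBifunctor L W F (ComplexShape.up ℤ) i m n hn) ≫
        ((KFlat.tot F L).obj W).d n (n + 1) = (F.obj (L.X i)).map (W.d m (m + 1)) ≫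
          HomologicalComplex.ιMapBifunctor L W F (ComplexShape.up ℤ) i (m + 1) (n + 1) _
    rw [Linear.units_smul_comp, ι_tot_d F L W i hd m (m + 1) n (n + 1) rfl hn (by omega)]
    exact (smul_smul _ _ _).trans ((congrArg (· • _) (Int.units_mul_self _)).trans (one_smul _ _))

/-- Vanishing of `H^n Tot F(L, M)` from the cohomology of `M`. -/
theorem exactAt_tot_of_cohomology [HasExactColimitsOfShape (Discrete ℕ) C] [CountableAB4 C]
    (L : CochainComplex A ℤ) (a : ℤ) (hL : ∀ p, a < p → IsZero (L.X p))
    (hflat : ∀ (p : ℤ) (S : ShortComplex B), S.ShortExact → (S.map (F.obj (L.X p))).ShortExact)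
    (hqi : ∀ W : CochainComplex B ℤ, W.Acyclic → ((KFlat.tot F L).obj W).Acyclic)
    (n b : ℤ) (M : CochainComplex B ℤ) (hM : ∀ q, b < q → IsZero (M.X q))
    (h : ∀ j, ((KFlat.tot F L).obj ((HomologicalComplex.single B (ComplexShape.up ℤ) j).obj (M.homology j))).ExactAt n) :
    ((KFlat.tot F L).obj M).ExactAt n := by
  refine devissage (fun X => ((KFlat.tot F L).obj X).ExactAt n) ?_ ?_ (n - a - 1) ?_ (b - (n - a - 1)).toNat M
    ((CochainComplex.isStrictlyLE_iff _ _).2 fun q hq => hM q (by omega)) (fun j _ => h j)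
  · intro X Y f hf
    haveI := KFlat.quasiIso_tot_map_of_isKFlat_left F L f hqi
    simp only [HomologicalComplex.exactAt_iff_isZero_homology]
    exact (isoOfQuasiIsoAt ((KFlat.tot F L).map f) n).isZero_iff
  · intro S hS h₁ h₃
    rw [HomologicalComplex.exactAt_iff_isZero_homology] at h₁ h₃ ⊢
    exact ((KFlat.shortExact_tot F L S fun p q => hflat p _
      (hS.map_of_exact (HomologicalComplex.eval B (ComplexShape.up ℤ) q))).homology_exact₂ n).isZero_X₂
        (h₁.eq_of_src _ _) (h₃.eq_of_tgt _ _)
  · intro X hX
    rw [HomologicalComplex.exactAt_iff]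
    exact ShortComplex.exact_of_isZero_X₂ _ (isZero_tot_X F L X a (n - a - 1) n hL
      (fun q hq => X.isZero_of_isStrictlyLE (n - a - 1) q hq) (by omega))

end Tot

section Ring

open Groth.Agent.H4DR

variable {R : Type u} [CommRing R]

theorem tensor_exactAt_of_tor (L M : DRing.Cx R) (hL : DRing.TermwiseFlat L) (a : ℤ) (ha : DRing.VanishesAbove L a)
    (b : ℤ) (hb : DRing.VanishesAbove M b) (n : ℤ)
    (h : ∀ (p : ℕ) (i j : ℤ), i + j - p = n → Subsingleton (DRing.Tor R p (L.homology i) (M.homology j))) :
    (HomologicalComplex.tensorObj L M).ExactAt n := by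
  have hk := KFlatMod.isKFlat_flip (KFlatMod.isKFlat_of_boundedAbove L a ha hL)
  have hLacy : ∀ W : DRing.Cx R, W.Acyclic → ((KFlat.tot (KFlatMod.bi R) L).obj W).Acyclic :=
    fun W hW => KFlat.acyclic_tot_of_isKFlat_flip hk hW
  refine exactAt_tot_of_cohomology (KFlatMod.bi R) L a ha (fun p S hS => ?_) hLacy n b M hb fun j => ?_
  · haveI : Module.Flat R (L.X p) := hL p
    refine { exact := Module.Flat.lTensor_shortComplex_exact (L.X p) S hS.exact, mono_f := ?_, epi_g := ?_ }
    · exact (ModuleCat.mono_iff_injective _).2 (Module.Flat.lTensor_preserves_injective_linearMap _ hS.moduleCat_injective_f)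
    · exact (ModuleCat.epi_iff_surjective _).2 (LinearMap.lTensor_surjective _ hS.moduleCat_surjective_g)
  let N : ModuleCat.{u} R := M.homology j
  let P := projectiveResolution N
  let W : DRing.Cx R := (HomologicalComplex.single _ (ComplexShape.up ℤ) j).obj N
  -- pass to the flipped functor and compute with `N` in degree zero
  let S0 : DRing.Cx R := (HomologicalComplex.single _ (ComplexShape.up ℤ) 0).obj N
  have h0 : (((KFlatMod.bi R).flip.obj N).mapHomologicalComplex (ComplexShape.up ℤ)).obj L |>.ExactAt (n - j) := by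
    let E := NatIso.mapHomologicalComplex ((KFlatMod.bi R).flip.mapIso
      (HomologicalComplex.singleObjXSelf (ComplexShape.up ℤ) 0 N)) (ComplexShape.up ℤ) |>.app L
    refine HomologicalComplex.ExactAt.of_iso ?_ E
    let T := KFlat.singleLeftIso (KFlatMod.bi R).flip S0 L fun p hp => HomologicalComplex.isZero_single_obj_X _ _ _ _ hp
    refine HomologicalComplex.ExactAt.of_iso ?_ (T ≪≫ KFlat.totFlipIso L S0).symm
    haveI := KFlat.quasiIso_tot_map_of_isKFlat_left (KFlatMod.bi R) L P.π' hLacy
    rw [HomologicalComplex.exactAt_iff_isZero_homology]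
    refine IsZero.of_iso ?_ (isoOfQuasiIsoAt ((KFlat.tot (KFlatMod.bi R) L).map P.π') (n - j)).symm
    rw [← HomologicalComplex.exactAt_iff_isZero_homology]
    have hP : DRing.TermwiseFlat P.cochainComplex := fun q => by
      haveI : Projective (P.cochainComplex.X q) := inferInstance
      haveI : Module.Projective R (P.cochainComplex.X q) := (P.cochainComplex.X q).projective_of_module_projective
      infer_instance
    have hP0 : DRing.VanishesAbove P.cochainComplex 0 := fun q hq => P.cochainComplex.isZero_of_isStrictlyLE 0 q hq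
    have hkP := KFlatMod.isKFlat_of_boundedAbove P.cochainComplex 0 hP0 hP
    refine HomologicalComplex.ExactAt.of_iso ?_ (KFlat.totFlipIso L P.cochainComplex)
    refine exactAt_tot_of_cohomology (KFlatMod.bi R).flip P.cochainComplex 0 hP0 (fun q S hS => ?_)
      (fun W hW => KFlat.acyclic_of_iso (KFlat.totFlipIso W P.cochainComplex).symm (hkP W hW)) (n - j) a L ha fun i => ?_
    · haveI : Module.Flat R (P.cochainComplex.X q) := hP q
      exact KFlatMod.isFlatObj_of_flat _ S hS
    refine HomologicalComplex.ExactAt.of_iso ?_ (KFlat.totFlipIso _ P.cochainComplex).symm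
    refine exactAt_tot_of_singleDegree (KFlatMod.bi R) _ P.cochainComplex i
      (fun p hp => HomologicalComplex.isZero_single_obj_X _ _ _ _ hp) (n - j - i) (n - j) (by omega) ?_
    refine HomologicalComplex.ExactAt.of_iso ?_ ((NatIso.mapHomologicalComplex ((KFlatMod.bi R).mapIso
      (HomologicalComplex.singleObjXSelf (ComplexShape.up ℤ) i (L.homology i))) (ComplexShape.up ℤ)).app P.cochainComplex).symm
    refine exactAt_map_extend _ P.complex _ fun p hp => ?_
    haveI := h p i j (by omega)
    rw [HomologicalComplex.exactAt_iff_isZero_homology]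
    exact (ModuleCat.isZero_of_subsingleton (((Tor (ModuleCat.{u} R) p).obj (L.homology i)).obj N)).of_iso
      (P.isoLeftDerivedObj ((tensoringLeft (ModuleCat.{u} R)).obj (L.homology i)) p).symm
  refine HomologicalComplex.ExactAt.of_iso ?_ (KFlat.totFlipIso L W)
  refine exactAt_tot_of_singleDegree (KFlatMod.bi R).flip W L j
    (fun p hp => HomologicalComplex.isZero_single_obj_X _ _ _ _ hp) (n - j) n (by omega) ?_
  exact h0.of_iso ((NatIso.mapHomologicalComplex ((KFlatMod.bi R).flip.mapIso
    (HomologicalComplex.singleObjXSelf (ComplexShape.up ℤ) j N).symm) (ComplexShape.up ℤ)).app L)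

end Ring

end Groth.Agent.H26Tor
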