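import Groth.Agent.H26Tor.Exact
import Mathlib.Algebra.Homology.LeftResolution.Basic
import Mathlib.Algebra.Category.ModuleCat.Adjunctions
import Mathlib.Algebra.Category.ModuleCat.FilteredColimits
import Mathlib.Algebra.Category.ModuleCat.Projective
import Mathlib.Algebra.Category.ModuleCat.AB
import Mathlib.Algebra.Category.ModuleCat.Abelian
import Mathlib.CategoryTheory.Monoidal.Tor
import Mathlib.Algebra.Category.ModuleCat.Monoidal.Closed
import Mathlib.CategoryTheory.Monoidal.Closed.Basic
import Mathlib.CategoryTheory.Monoidal.Braided.Basic

/-! `Tor` commutes with filtered colimits in both variables. -/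

set_option autoImplicit false

universe u

open CategoryTheory CategoryTheory.Limits MonoidalCategory

namespace Groth.Agent.H26Tor

variable {R : Type u} [CommRing R] {J : Type u} [SmallCategory J] [IsFiltered J]

theorem epi_counit (X : ModuleCat.{u} R) : Epi ((ModuleCat.adj R).counit.app X) := by
  rw [ModuleCat.epi_iff_surjective]
  intro x
  refine ⟨ModuleCat.freeMk x, ?_⟩
  simp [ModuleCat.adj, ModuleCat.freeHomEquiv]

variable (R) in
/-- The functorial presentation by free modules. -/
noncomputable def freeRes : Abelian.LeftResolution (𝟭 (ModuleCat.{u} R)) where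
  F := forget (ModuleCat.{u} R) ⋙ ModuleCat.free R
  π := (ModuleCat.adj R).counit
  epi_π_app := epi_counit

theorem projective_freeRes_obj (X : ModuleCat.{u} R) : Projective ((freeRes R).F.obj X) :=
  ModuleCat.projective_of_free (Finsupp.basisSingleOne (R := R))

instance preservesColimitsOfShape_freeRes : PreservesColimitsOfShape J (freeRes R).F := by
  haveI : PreservesColimitsOfSize.{u, u} (ModuleCat.free R) := (ModuleCat.adj R).leftAdjoint_preservesColimits
  show PreservesColimitsOfShape J (forget (ModuleCat.{u} R) ⋙ ModuleCat.free R)
  infer_instance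

theorem projective_chainComplex (X : ModuleCat.{u} R) : ∀ n, Projective (((freeRes R).chainComplex X).X n)
  | 0 => Projective.of_iso ((freeRes R).chainComplexXZeroIso X).symm (projective_freeRes_obj _)
  | 1 => Projective.of_iso ((freeRes R).chainComplexXOneIso X).symm (projective_freeRes_obj _)
  | n + 2 => Projective.of_iso ((freeRes R).chainComplexXIso X n).symm (projective_freeRes_obj _)

theorem d_comp_π (X : ModuleCat.{u} R) :
    ((freeRes R).chainComplex X).d 1 0 ≫ ((freeRes R).chainComplexXZeroIso X).hom ≫ (freeRes R).π.app X = 0 := by
  have h := (freeRes R).map_chainComplex_d_1_0 X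
  simp only [Functor.id_map] at h
  rw [h]
  simp only [Category.assoc]
  erw [Iso.inv_hom_id_assoc]
  simp

/-- The functorial free resolution. -/
noncomputable def resolution (X : ModuleCat.{u} R) : ProjectiveResolution X where
  complex := (freeRes R).chainComplex X
  projective := projective_chainComplex X
  π := (ChainComplex.toSingle₀Equiv _ _).symm ⟨_, d_comp_π X⟩
  quasiIso := ⟨fun n => by
    cases n with
    | zero =>
      rw [ChainComplex.quasiIsoAt₀_iff, ShortComplex.quasiIso_iff_of_zeros']
      · let S := ShortComplex.mk ((freeRes R).π.app (kernel ((freeRes R).π.app X)) ≫ kernel.ι _)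
          ((freeRes R).π.app X) (by simp)
        have hS : S.Exact := by
          rw [ShortComplex.exact_iff_epi_kernel_lift]
          have : kernel.lift S.g S.f S.zero = (freeRes R).π.app _ := by
            rw [← cancel_mono (kernel.ι S.g), kernel.lift_ι]
          rw [this]
          infer_instance
        refine (ShortComplex.exact_and_epi_g_iff_of_iso ?_).2 ⟨hS, (freeRes R).epi_π_app X⟩
        refine ShortComplex.isoMk ((freeRes R).chainComplexXOneIso X) ((freeRes R).chainComplexXZeroIso X)
          (Iso.refl _) ?_ ?_
        · dsimp [S]
          have h := (freeRes R).map_chainComplex_d_1_0 X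
          simp only [Functor.id_map] at h
          show _ = ((freeRes R).chainComplex X).d 1 0 ≫ _
          rw [h]
          simp only [Category.assoc]
          erw [Iso.inv_hom_id]
          simp
          rfl
        · simp [S]
          rfl
      all_goals first | rfl | exact HomologicalComplex.shape _ _ _ (by simp)
    | succ n =>
      rw [quasiIsoAt_iff_exactAt']
      · exact HomologicalComplex.ExactAt.of_iso ((freeRes R).exactAt_map_chainComplex_succ X n)
          (HomologicalComplex.Hom.isoOfComponents (fun i => Iso.refl _) (fun i j _ => by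
            simp only [Iso.refl_hom]
            exact (Category.id_comp _).trans (Category.comp_id _).symm))
      · apply ChainComplex.exactAt_succ_single_obj⟩

theorem resolution_comm {X Y : ModuleCat.{u} R} (f : X ⟶ Y) :
    ((freeRes R).chainComplexFunctor.map f).f 0 ≫ (resolution Y).π.f 0 = (resolution X).π.f 0 ≫ f := by
  simp [resolution, Abelian.LeftResolution.chainComplexFunctor]

theorem preservesColimitsOfShape_eval :
    ∀ n : ℕ, PreservesColimitsOfShape J ((freeRes R).chainComplexFunctor ⋙ HomologicalComplex.eval _ _ n)
  | 0 => preservesColimitsOfShape_of_natIso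
      (NatIso.ofComponents (fun X => ((freeRes R).chainComplexXZeroIso X).symm) (fun f => by
        simp [Abelian.LeftResolution.chainComplexFunctor]; exact (Iso.inv_hom_id_assoc _ _).symm) :
        (freeRes R).F ≅ (freeRes R).chainComplexFunctor ⋙ HomologicalComplex.eval _ _ 0)
  | 1 => by
    let K : ModuleCat.{u} R ⥤ ModuleCat.{u} R :=
      { obj := fun X => kernel ((freeRes R).π.app X)
        map := fun f => kernel.map _ _ ((freeRes R).F.map f) f ((freeRes R).π.naturality f).symm
        map_id := fun X => (cancel_mono (kernel.ι _)).1 (by simp)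
        map_comp := fun f g => (cancel_mono (kernel.ι _)).1 (by simp) }
    haveI : PreservesColimitsOfShape J K :=
      preservesColimitsOfShape_kernel (K := K) (G := (freeRes R).F) (H := 𝟭 _)
        { app := fun X => kernel.ι ((freeRes R).π.app X), naturality := fun X Y f => kernel.lift_ι _ _ _ }
        (freeRes R).π (fun X => kernel.condition _) (fun X => (inferInstance : Mono (kernel.ι _)))
        (fun X => ShortComplex.exact_of_f_is_kernel _ (kernelIsKernel _))
    exact preservesColimitsOfShape_of_natIso
      (NatIso.ofComponents (fun X => ((freeRes R).chainComplexXOneIso X).symm) (fun f => by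
        simp [Abelian.LeftResolution.chainComplexFunctor, K]; exact (Iso.inv_hom_id_assoc _ _).symm) :
        K ⋙ (freeRes R).F ≅ (freeRes R).chainComplexFunctor ⋙ HomologicalComplex.eval _ _ 1)
  | n + 2 => by
    haveI := preservesColimitsOfShape_eval n
    haveI := preservesColimitsOfShape_eval (n + 1)
    let K : ModuleCat.{u} R ⥤ ModuleCat.{u} R :=
      { obj := fun X => kernel (((freeRes R).chainComplex X).d (n + 1) n)
        map := fun f => kernel.map _ _ (((freeRes R).chainComplexMap f).f (n + 1)) (((freeRes R).chainComplexMap f).f n)
          (HomologicalComplex.Hom.comm _ _ _).symm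
        map_id := fun X => (cancel_mono (kernel.ι _)).1 (by simp)
        map_comp := fun f g => (cancel_mono (kernel.ι _)).1 (by simp) }
    haveI : PreservesColimitsOfShape J K :=
      preservesColimitsOfShape_kernel (K := K) (G := (freeRes R).chainComplexFunctor ⋙ HomologicalComplex.eval _ _ (n + 1))
        (H := (freeRes R).chainComplexFunctor ⋙ HomologicalComplex.eval _ _ n)
        { app := fun X => kernel.ι (((freeRes R).chainComplex X).d (n + 1) n), naturality := fun X Y f => kernel.lift_ι _ _ _ }
        { app := fun X => ((freeRes R).chainComplex X).d (n + 1) n, naturality := fun X Y f => ((freeRes R).chainComplexMap f).comm (n + 1) n }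
        (fun X => kernel.condition _) (fun X => (inferInstance : Mono (kernel.ι _)))
        (fun X => ShortComplex.exact_of_f_is_kernel _ (kernelIsKernel _))
    exact preservesColimitsOfShape_of_natIso
      (NatIso.ofComponents (fun X => ((freeRes R).chainComplexXIso X n).symm) (fun f => by
        show (freeRes R).F.map _ ≫ _ = _ ≫ ((freeRes R).chainComplexMap f).f (n + 2)
        simp [K]
        ) : K ⋙ (freeRes R).F ≅ (freeRes R).chainComplexFunctor ⋙ HomologicalComplex.eval _ _ (n + 2))

theorem preservesColimitsOfShape_tor (M : ModuleCat.{u} R) (p : ℕ) :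
    PreservesColimitsOfShape J ((Tor (ModuleCat.{u} R) p).obj M) := by
  haveI : ∀ i, PreservesColimitsOfShape J
      (((freeRes R).chainComplexFunctor ⋙ ((tensoringLeft (ModuleCat.{u} R)).obj M).mapHomologicalComplex _) ⋙
        HomologicalComplex.eval _ _ i) := fun i => by
    haveI := preservesColimitsOfShape_eval (R := R) (J := J) i
    haveI : PreservesColimitsOfShape J (tensorLeft M) := inferInstance
    exact preservesColimitsOfShape_of_natIso
      (NatIso.ofComponents (fun X => Iso.refl _) :
        ((freeRes R).chainComplexFunctor ⋙ HomologicalComplex.eval _ _ i) ⋙ tensorLeft M ≅ _)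
  haveI := preservesColimitsOfShape_homology (J := J)
    ((freeRes R).chainComplexFunctor ⋙ ((tensoringLeft (ModuleCat.{u} R)).obj M).mapHomologicalComplex _) p
  refine preservesColimitsOfShape_of_natIso (NatIso.ofComponents (fun X =>
    ((resolution X).isoLeftDerivedObj ((tensoringLeft (ModuleCat.{u} R)).obj M) p).symm) fun {X Y} f => ?_ :
      ((freeRes R).chainComplexFunctor ⋙ ((tensoringLeft (ModuleCat.{u} R)).obj M).mapHomologicalComplex _) ⋙
        HomologicalComplex.homologyFunctor _ _ p ≅ _)
  exact ((resolution X).isoLeftDerivedObj_inv_naturality f (resolution Y) _ (resolution_comm f)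
    ((tensoringLeft (ModuleCat.{u} R)).obj M) p).symm

theorem preservesColimitsOfShape_tor_flip (N : ModuleCat.{u} R) (p : ℕ) :
    PreservesColimitsOfShape J ((Tor (ModuleCat.{u} R) p).flip.obj N) := by
  let P := projectiveResolution N
  let G : ModuleCat.{u} R ⥤ ChainComplex (ModuleCat.{u} R) ℕ :=
    { obj := fun M => (((tensoringLeft (ModuleCat.{u} R)).obj M).mapHomologicalComplex _).obj P.complex
      map := fun f => (NatTrans.mapHomologicalComplex ((tensoringLeft (ModuleCat.{u} R)).map f) _).app P.complex }
  haveI : ∀ i, PreservesColimitsOfShape J (G ⋙ HomologicalComplex.eval _ _ i) := fun i => by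
    haveI : PreservesColimitsOfShape J (tensorRight (P.complex.X i)) :=
      preservesColimitsOfShape_of_natIso (BraidedCategory.tensorLeftIsoTensorRight (P.complex.X i))
    exact preservesColimitsOfShape_of_natIso
      (NatIso.ofComponents (fun X => Iso.refl _) : tensorRight (P.complex.X i) ≅ _)
  haveI := preservesColimitsOfShape_homology (J := J) G p
  refine preservesColimitsOfShape_of_natIso (NatIso.ofComponents (fun M =>
    (P.isoLeftDerivedObj ((tensoringLeft (ModuleCat.{u} R)).obj M) p).symm) fun {X Y} f => ?_ :
      G ⋙ HomologicalComplex.homologyFunctor _ _ p ≅ (Tor (ModuleCat.{u} R) p).flip.obj N)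
  refine Eq.trans ?_ (congrArg (_ ≫ ·) (P.leftDerived_app_eq ((tensoringLeft (ModuleCat.{u} R)).map f) p)).symm
  exact (Iso.inv_hom_id_assoc _ _).symm

end Groth.Agent.H26Tor
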